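import Mathlib
import Cfsg.Agent.Lib.Elusive.RootScalar
import Cfsg.Agent.Lib.Elusive.Uniform

/-!
An endomorphism of order `r` is rational over a subfield with the same Frobenius orbits on the `r`-th roots
of unity, and its centraliser has every determinant.
Owner: helper86.
-/

set_option autoImplicit false

namespace Cfsg.Agent.Lib.SubfieldElusive

open Module Polynomial

variable {F : Type*} [Field F] [Fintype F] {V : Type*} [AddCommGroup V] [Module F V]
  [FiniteDimensional F V]

/-- A basis of `X` in which `g` has all entries in `F₀`. -/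
def IsRational (F₀ : Subfield F) (g : Module.End F V) (X : Submodule F V) : Prop :=
  ∃ (d : ℕ) (b : Fin d → V), LinearIndependent F b ∧ Submodule.span F (Set.range b) = X ∧
    ∃ M : Fin d → Fin d → F, (∀ l j, M l j ∈ F₀) ∧ ∀ j, g (b j) = ∑ l, M l j • b l

theorem mem_of_pow_eq {F₀ : Subfield F} {q₀ : ℕ} (hF₀ : Nat.card F₀ = q₀) {a : F}
    (ha : a ^ q₀ = a) : a ∈ F₀ := by
  classical
  haveI : Fintype F₀ := Fintype.ofFinite _
  have hq : 1 < q₀ := by rw [← hF₀]; exact Finite.one_lt_card
  have hne : (X ^ q₀ - X : F[X]) ≠ 0 := FiniteField.X_pow_card_sub_X_ne_zero F hq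
  let S : Finset F := Finset.univ.map ⟨((↑) : F₀ → F), Subtype.val_injective⟩
  have hS : S ⊆ (X ^ q₀ - X : F[X]).roots.toFinset := by
    intro x hx
    obtain ⟨y, -, rfl⟩ := Finset.mem_map.mp hx
    rw [Multiset.mem_toFinset, mem_roots hne, IsRoot.def, eval_sub, eval_pow, eval_X, sub_eq_zero]
    have := FiniteField.pow_card y
    rw [← Nat.card_eq_fintype_card, hF₀] at this
    exact congrArg Subtype.val this
  have hcard : (X ^ q₀ - X : F[X]).roots.toFinset.card ≤ S.card := by
    rw [Finset.card_map, Finset.card_univ, ← Nat.card_eq_fintype_card, hF₀]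
    refine (Multiset.toFinset_card_le _).trans ((card_roots' _).trans ?_)
    rw [FiniteField.X_pow_card_sub_X_natDegree_eq F hq]
  have hmem : a ∈ S := by
    rw [Finset.eq_of_subset_of_card_le hS hcard, Multiset.mem_toFinset, mem_roots hne, IsRoot.def,
      eval_sub, eval_pow, eval_X, sub_eq_zero]
    exact ha
  obtain ⟨y, -, rfl⟩ := Finset.mem_map.mp hmem
  exact y.2

/-- An irreducible factor killing a vector of an invariant subspace. -/
theorem exists_factor {g : Module.End F V} {W : Submodule F V} (hW : Elusive.Inv g W) :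
    ∀ (N : ℕ) (Q : F[X]), Q.natDegree ≤ N → Q ≠ 0 → ∀ v ∈ W, v ≠ 0 → aeval g Q v = 0 →
      ∃ P : F[X], P.Monic ∧ Irreducible P ∧ ∃ u ∈ W, u ≠ 0 ∧ aeval g P u = 0 := by
  intro N
  induction N with
  | zero =>
    intro Q hQN hQ v _ hv hQv
    rw [Polynomial.eq_C_of_natDegree_le_zero hQN, aeval_C, Module.algebraMap_end_apply,
      smul_eq_zero] at hQv
    refine absurd hQv (not_or.mpr ⟨fun h => hQ ?_, hv⟩)
    rw [Polynomial.eq_C_of_natDegree_le_zero hQN, h, map_zero]
  | succ N ih =>
    intro Q hQN hQ v hvW hv hQv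
    by_cases hu : IsUnit Q
    · obtain ⟨c, hc, rfl⟩ := Polynomial.isUnit_iff.mp hu
      rw [aeval_C, Module.algebraMap_end_apply, smul_eq_zero] at hQv
      exact absurd hQv (not_or.mpr ⟨hc.ne_zero, hv⟩)
    obtain ⟨P, hPm, hP, R, rfl⟩ := Polynomial.exists_monic_irreducible_factor Q hu
    by_cases h : aeval g R v = 0
    · refine ih R ?_ (right_ne_zero_of_mul hQ) v hvW hv h
      have := hP.natDegree_pos
      rw [natDegree_mul (left_ne_zero_of_mul hQ) (right_ne_zero_of_mul hQ)] at hQN
      omega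
    · refine ⟨P, hPm, hP, aeval g R v, ?_, h, by rwa [← Module.End.mul_apply, ← map_mul]⟩
      rw [aeval_eq_sum_range, LinearMap.sum_apply]
      have hmem : ∀ l, (g ^ l) v ∈ W := fun l => by
        induction l with
        | zero => simpa using hvW
        | succ l ih' => rw [pow_succ', Module.End.mul_apply]; exact hW.mem ih'
      exact Submodule.sum_mem _ fun l _ => W.smul_mem _ (hmem l)

/-- A piece of an invariant subspace: rational, with centraliser of every determinant. -/
theorem exists_piece {F₀ : Subfield F} {q₀ r : ℕ} [hr : Fact r.Prime] (hF₀ : Nat.card F₀ = q₀)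
    (hqr : (q₀ : ZMod r) = (Fintype.card F : ZMod r)) {g : Module.End F V} (hg : g ^ r = 1)
    {W : Submodule F V} (hW : Elusive.Inv g W) (hne : W ≠ ⊥) :
    ∃ Z : Submodule F V, Elusive.Inv g Z ∧ Z ≤ W ∧ Z ≠ ⊥ ∧ IsRational F₀ g Z ∧
      ∀ δ : F, δ ≠ 0 → ∃ C : Module.End F Z, LinearMap.det C = δ ∧
        ∀ z z' : Z, (z' : V) = g (z : V) → (C z' : V) = g (C z : V) := by
  classical
  obtain ⟨v₀, hv₀W, hv₀⟩ := W.exists_mem_ne_zero_of_ne_bot hne
  have hXr : (X ^ r - 1 : F[X]) ≠ 0 := by
    rw [← C_1]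
    exact (monic_X_pow_sub_C (1 : F) hr.out.ne_zero).ne_zero
  obtain ⟨P, hPm, hP, u, huW, hu, hPu⟩ := exists_factor hW _ (X ^ r - 1 : F[X]) le_rfl hXr v₀ hv₀W hv₀
    (by simp [hg])
  haveI : Fact (Irreducible P) := ⟨hP⟩
  have hPdvd : P ∣ X ^ r - 1 := by
    by_cases h : P ∣ X ^ r - 1
    swap
    · obtain ⟨a, b, hab⟩ := hP.coprime_iff_not_dvd.mpr h
      exfalso
      have := congrArg (fun Q => aeval g Q u) hab
      simp only [map_add, map_mul, map_one, LinearMap.add_apply, Module.End.mul_apply, hPu,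
        Module.End.one_apply, map_zero, zero_add] at this
      rw [show aeval g (X ^ r - 1 : F[X]) = 0 by simp [hg], LinearMap.zero_apply, map_zero] at this
      exact hu this.symm
    · exact h
  let Kp : Submodule F V := LinearMap.ker (aeval g P)
  have hKp : ∀ x ∈ Kp, g x ∈ Kp := fun x hx => by
    rw [LinearMap.mem_ker] at hx ⊢
    have hc : aeval g P * g = g * aeval g P := by
      simpa using ((Commute.all P (X : F[X])).map (aeval g)).eq
    rw [← Module.End.mul_apply, hc, Module.End.mul_apply, hx, map_zero]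
  let gK : Module.End F Kp := g.restrict hKp
  have hgK : ∀ (Q : F[X]) (x : Kp), ((aeval gK Q x : Kp) : V) = aeval g Q (x : V) := by
    intro Q x
    induction Q using Polynomial.induction_on' with
    | add a b ha hb => simp [ha, hb]
    | monomial l a =>
      simp only [aeval_monomial, Module.End.mul_apply, Module.algebraMap_end_apply,
        Submodule.coe_smul]
      congr 1
      exact Elusive.restrict_pow_apply hKp l x
  have hgKP : aeval gK P = 0 := LinearMap.ext fun x => Subtype.ext (by rw [hgK]; exact x.2)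
  let ι : AdjoinRoot P →ₐ[F] Module.End F Kp :=
    Ideal.Quotient.liftₐ (Ideal.span {P}) (aeval gK) (by
      intro Q hQ
      obtain ⟨a, rfl⟩ := Ideal.mem_span_singleton.mp hQ
      rw [map_mul, hgKP, zero_mul])
  have hι : ι (AdjoinRoot.root P) = gK := by
    show aeval gK (X : F[X]) = gK
    rw [aeval_X]
  let uK : Kp := ⟨u, hPu⟩
  let e : AdjoinRoot P →ₗ[F] V :=
    Kp.subtype.comp (((LinearMap.applyₗ uK) : Module.End F Kp →ₗ[F] Kp).comp ι.toLinearMap)
  have he : ∀ a, e a = ((ι a uK : Kp) : V) := fun a => rfl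
  have heg : ∀ a, e (AdjoinRoot.root P * a) = g (e a) := fun a => by
    rw [he, he, map_mul, hι, Module.End.mul_apply]
    rfl
  have hinj : Function.Injective e := by
    rw [injective_iff_map_eq_zero]
    intro a ha
    by_contra h0
    have h1 : ι a uK = 0 := Subtype.ext ha
    have h2 : ι (a⁻¹ * a) uK = 0 := by rw [map_mul, Module.End.mul_apply, h1, map_zero]
    rw [inv_mul_cancel₀ h0, map_one, Module.End.one_apply] at h2
    exact hu (congrArg Subtype.val h2)
  haveI : Module.Finite F (AdjoinRoot P) := (AdjoinRoot.powerBasis hP.ne_zero).finite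
  let pb := AdjoinRoot.powerBasis hP.ne_zero
  let ε : AdjoinRoot P ≃ₗ[F] LinearMap.range e := LinearEquiv.ofInjective e hinj
  have hpow : ∀ l : ℕ, (g ^ l) u ∈ W := fun l => by
    induction l with
    | zero => simpa using huW
    | succ l ih => rw [pow_succ', Module.End.mul_apply]; exact hW.mem ih
  have hepow : ∀ l : ℕ, e (AdjoinRoot.root P ^ l) = (g ^ l) u := fun l => by
    induction l with
    | zero => rw [pow_zero, pow_zero, he, map_one]; rfl
    | succ l ih => rw [pow_succ', heg, ih, pow_succ', Module.End.mul_apply]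
  have hbd : ∀ j, e (pb.basis j) = (g ^ (j : ℕ)) u := fun j => by
    rw [PowerBasis.coe_basis, AdjoinRoot.powerBasis_gen, hepow]
  -- the coefficients of `P` lie in `F₀`
  obtain ⟨p, hp⟩ := CharP.exists F
  haveI : Fact p.Prime := ⟨CharP.char_is_prime F p⟩
  haveI : ExpChar F p := ExpChar.prime Fact.out
  obtain ⟨N, hN⟩ : ∃ N, q₀ = p ^ N := by
    haveI : Fintype F₀ := Fintype.ofFinite _
    haveI : CharP F₀ p := (RingHom.charP_iff F₀.subtype F₀.subtype.injective p).mpr hp
    obtain ⟨N, -, hN⟩ := FiniteField.card F₀ p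
    exact ⟨N, by rw [← hF₀, Nat.card_eq_fintype_card, hN]⟩
  let ψ : F →+* F := iterateFrobenius F p N
  have hψ : ∀ a, ψ a = a ^ q₀ := fun a => by rw [hN]; rfl
  have hPF₀ : ∀ l, P.coeff l ∈ F₀ := by
    set ρ := AdjoinRoot.root P with hρ
    have hP0 : aeval ρ P = 0 := by rw [hρ, AdjoinRoot.aeval_eq, AdjoinRoot.mk_self]
    have hρr : ρ ^ r = 1 := by
      obtain ⟨Q, hQ⟩ := hPdvd
      have := congrArg (fun T => aeval ρ T) hQ
      simp only [map_sub, map_pow, aeval_X, map_one, map_mul, hP0, zero_mul, sub_eq_zero] at this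
      exact this
    haveI : CharP (AdjoinRoot P) p :=
      charP_of_injective_algebraMap (algebraMap F (AdjoinRoot P)).injective p
    haveI : ExpChar (AdjoinRoot P) p := ExpChar.prime Fact.out
    let ψL : AdjoinRoot P →+* AdjoinRoot P := iterateFrobenius (AdjoinRoot P) p N
    have hψL : ∀ a, ψL a = a ^ q₀ := fun a => by rw [hN]; rfl
    have hcomp : (algebraMap F (AdjoinRoot P)).comp ψ = ψL.comp (algebraMap F (AdjoinRoot P)) :=
      RingHom.ext fun a => by rw [RingHom.comp_apply, RingHom.comp_apply, hψ, hψL, map_pow]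
    have h1 : aeval (ρ ^ q₀) (P.map ψ) = 0 := by
      rw [aeval_def, eval₂_map, hcomp, ← hψL, ← hom_eval₂, ← aeval_def, hP0, map_zero]
    have hq : ρ ^ q₀ = ρ ^ Fintype.card F :=
      (pow_eq_pow_mod q₀ hρr).trans (((ZMod.natCast_eq_natCast_iff' _ _ _).mp hqr) ▸
        (pow_eq_pow_mod (Fintype.card F) hρr).symm)
    have h2 : aeval (ρ ^ Fintype.card F) P = 0 := by
      rw [← expand_aeval, FiniteField.expand_card, map_pow, hP0, zero_pow Fintype.card_ne_zero]
    rw [hq] at h1
    have hmin := minpoly.eq_of_irreducible_of_monic hP h2 hPm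
    have hdvd := minpoly.dvd F _ h1
    rw [← hmin] at hdvd
    have heq : P.map ψ = P :=
      eq_of_monic_of_dvd_of_natDegree_le hPm (hPm.map ψ) hdvd (by rw [natDegree_map])
    intro l
    refine mem_of_pow_eq hF₀ ?_
    rw [← hψ, ← coeff_map, heq]
  refine ⟨LinearMap.range e, Elusive.Inv.of_mem ?_, ?_, ?_,
    ⟨pb.dim, fun j => e (pb.basis j), pb.basis.linearIndependent.map' e (LinearMap.ker_eq_bot.mpr hinj),
      ?_, fun l j => pb.basis.repr (AdjoinRoot.root P * pb.basis j) l, ?_, ?_⟩, ?_⟩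
  · rintro _ ⟨a, rfl⟩
    exact ⟨AdjoinRoot.root P * a, heg a⟩
  · rintro _ ⟨a, rfl⟩
    rw [← pb.basis.sum_repr a, map_sum]
    refine Submodule.sum_mem _ fun j _ => ?_
    rw [map_smul, hbd]
    exact W.smul_mem _ (hpow _)
  · intro h
    have h1 : e 1 ∈ LinearMap.range e := ⟨1, rfl⟩
    rw [h, Submodule.mem_bot] at h1
    rw [← pow_zero (AdjoinRoot.root P), hepow] at h1
    exact hu h1
  · rw [show (Set.range fun j => e (pb.basis j)) = e '' Set.range pb.basis from
      (Set.range_comp e pb.basis), ← Submodule.map_span, pb.basis.span_eq, Submodule.map_top]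
  · intro l j
    show pb.basis.repr (AdjoinRoot.root P * pb.basis j) l ∈ F₀
    rw [show AdjoinRoot.root P * pb.basis j = AdjoinRoot.root P ^ ((j : ℕ) + 1) by
      rw [PowerBasis.coe_basis, AdjoinRoot.powerBasis_gen, pow_succ']]
    by_cases hj : (j : ℕ) + 1 < pb.dim
    · have hb : AdjoinRoot.root P ^ ((j : ℕ) + 1) = pb.basis ⟨_, hj⟩ := by
        rw [PowerBasis.coe_basis, AdjoinRoot.powerBasis_gen]
      rw [hb, Basis.repr_self, Finsupp.single_apply]
      split_ifs
      exacts [F₀.one_mem, F₀.zero_mem]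
    · have hdim : (j : ℕ) + 1 = P.natDegree := by
        have hj2 : (j : ℕ) < pb.dim := j.2
        have hpd : pb.dim = P.natDegree := AdjoinRoot.powerBasis_dim hP.ne_zero
        omega
      have hexp : AdjoinRoot.root P ^ P.natDegree =
          ∑ i : Fin pb.dim, (-P.coeff i) • pb.basis i := by
        have h := aeval_eq_sum_range (p := P) (AdjoinRoot.root P)
        rw [AdjoinRoot.aeval_eq, AdjoinRoot.mk_self, Finset.sum_range_succ, hPm.coeff_natDegree,
          one_smul] at h
        rw [eq_neg_of_add_eq_zero_right h.symm, ← Finset.sum_neg_distrib, Finset.sum_range]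
        refine (Fintype.sum_equiv (finCongr (AdjoinRoot.powerBasis_dim hP.ne_zero).symm) _ _
          fun i => ?_)
        rw [PowerBasis.coe_basis, AdjoinRoot.powerBasis_gen, neg_smul]
        rfl
      rw [hdim, hexp, Basis.repr_sum_self]
      exact F₀.neg_mem (hPF₀ _)
  · intro j
    rw [← heg]
    conv_lhs => rw [← pb.basis.sum_repr (AdjoinRoot.root P * pb.basis j), map_sum]
    simp only [map_smul]
  · intro δ _
    haveI : Finite (AdjoinRoot P) := Module.finite_of_finite F
    obtain ⟨k, hk⟩ := FiniteField.norm_surjective F (AdjoinRoot P) δ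
    refine ⟨ε.conjAlgEquiv F (Algebra.lmul F (AdjoinRoot P) k), ?_, fun z z' hz => ?_⟩
    · rw [LinearEquiv.conjAlgEquiv_apply]
      exact (LinearMap.det_conj (Algebra.lmul F (AdjoinRoot P) k) ε).trans
        ((Algebra.norm_apply F k).symm.trans hk)
    · obtain ⟨a, rfl⟩ := ε.surjective z
      obtain ⟨a', rfl⟩ := ε.surjective z'
      have ha' : a' = AdjoinRoot.root P * a := hinj (by rw [heg]; exact hz)
      simp only [LinearEquiv.conjAlgEquiv_apply, LinearMap.comp_apply, LinearEquiv.coe_coe,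
        LinearEquiv.symm_apply_apply]
      show e (k * a') = g (e (k * a))
      rw [← heg, ha', mul_left_comm]

theorem rational_sup {F₀ : Subfield F} {g : Module.End F V} {Z U : Submodule F V}
    (hZ : IsRational F₀ g Z) (hU : IsRational F₀ g U) (hinf : Z ⊓ U = ⊥) :
    IsRational F₀ g (Z ⊔ U) := by
  obtain ⟨d, b, hb, hbs, M, hM, hMb⟩ := hZ
  obtain ⟨d', b', hb', hbs', M', hM', hMb'⟩ := hU
  let B : Fin d ⊕ Fin d' → V := Sum.elim b b'
  let N : Fin d ⊕ Fin d' → Fin d ⊕ Fin d' → F := fun s t =>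
    Sum.elim (fun l => Sum.elim (fun j => M l j) (fun _ => 0) t)
      (fun l => Sum.elim (fun _ => 0) (fun j => M' l j) t) s
  let E := finSumFinEquiv (m := d) (n := d')
  refine ⟨d + d', B ∘ E.symm, ?_, ?_, fun s t => N (E.symm s) (E.symm t), fun s t => ?_, fun t => ?_⟩
  · exact (hb.sum_type hb' (by rw [hbs, hbs', disjoint_iff, hinf])).comp _ E.symm.injective
  · rw [Set.range_comp, E.symm.surjective.range_eq, Set.image_univ, Set.Sum.elim_range,
      Submodule.span_union, hbs, hbs']
  · show N (E.symm s) (E.symm t) ∈ F₀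
    rcases E.symm s with l | l <;> rcases E.symm t with j | j
    exacts [hM l j, F₀.zero_mem, F₀.zero_mem, hM' l j]
  · show g (B (E.symm t)) = ∑ s, N (E.symm s) (E.symm t) • B (E.symm s)
    rw [E.symm.sum_comp (fun s => N s (E.symm t) • B s), Fintype.sum_sum_type]
    rcases E.symm t with j | j <;> simp [B, N, hMb, hMb']

/-- Every invariant subspace is rational. -/
theorem rational {F₀ : Subfield F} {q₀ r : ℕ} [hr : Fact r.Prime] (hrF : (r : F) ≠ 0)
    (hF₀ : Nat.card F₀ = q₀)
    (hqr : (q₀ : ZMod r) = (Fintype.card F : ZMod r)) {g : Module.End F V} (hg : g ^ r = 1)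
    (W : Submodule F V) (hW : Elusive.Inv g W) : IsRational F₀ g W := by
  induction hd : finrank F W using Nat.strong_induction_on generalizing W with
  | _ d ih =>
    rcases eq_or_ne W ⊥ with rfl | hne
    · exact ⟨0, Fin.elim0, linearIndependent_empty_type, by simp, Fin.elim0, fun l => l.elim0,
        fun j => j.elim0⟩
    obtain ⟨Z, hZi, hZW, hZ0, hZr, -⟩ := exists_piece hF₀ hqr hg hW hne
    have hss : g.IsSemisimple :=
      Elusive.isSemisimple_of_pow_eq hrF one_ne_zero (by rw [hg, one_smul])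
    obtain ⟨U, hUi, -, hinf, hsup⟩ := Elusive.exists_compl hss hW hZi hZW
    have hlt : finrank F U < d := by
      have h := Submodule.finrank_sup_add_finrank_inf_eq Z U
      rw [hinf, hsup, finrank_bot, hd] at h
      have : 0 < finrank F Z := Nat.pos_of_ne_zero fun h0 => hZ0 (Submodule.finrank_eq_zero.mp h0)
      omega
    have := rational_sup hZr (ih _ hlt U hUi rfl) hinf
    rwa [hsup] at this

/-- The centraliser has every determinant. -/
theorem exists_commute_det [Nontrivial V] {F₀ : Subfield F} {q₀ r : ℕ} [hr : Fact r.Prime]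
    (hrF : (r : F) ≠ 0) (hF₀ : Nat.card F₀ = q₀)
    (hqr : (q₀ : ZMod r) = (Fintype.card F : ZMod r)) {g : Module.End F V} (hg : g ^ r = 1)
    (δ : F) (hδ : δ ≠ 0) : ∃ C : Module.End F V, LinearMap.det C = δ ∧ C * g = g * C := by
  obtain ⟨Z, hZi, -, -, -, hC⟩ := exists_piece hF₀ hqr hg (Elusive.Inv.top g) (bot_ne_top.symm)
  have hss : g.IsSemisimple :=
    Elusive.isSemisimple_of_pow_eq hrF one_ne_zero (by rw [hg, one_smul])
  obtain ⟨U, hUi, -, hinf, hsup⟩ := Elusive.exists_compl hss (Elusive.Inv.top g) hZi le_top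
  have hc : IsCompl Z U := ⟨disjoint_iff.mpr hinf, codisjoint_iff.mpr hsup⟩
  obtain ⟨C, hCd, hCg⟩ := hC δ hδ
  let E := Submodule.prodEquivOfIsCompl Z U hc
  refine ⟨E.conjAlgEquiv F (C.prodMap LinearMap.id), ?_, ?_⟩
  · rw [LinearEquiv.conjAlgEquiv_apply]
    refine (LinearMap.det_conj (C.prodMap LinearMap.id) E).trans ?_
    rw [LinearMap.det_prodMap, hCd, LinearMap.det_id, mul_one]
  · refine LinearMap.ext fun x => ?_
    obtain ⟨⟨z, w⟩, rfl⟩ := E.surjective x
    have hgE : g (E (z, w)) = E (⟨g z, hZi.mem z.2⟩, ⟨g w, hUi.mem w.2⟩) := by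
      simp [E, Submodule.coe_prodEquivOfIsCompl']
    simp only [Module.End.mul_apply, hgE, LinearEquiv.conjAlgEquiv_apply, LinearMap.comp_apply,
      LinearEquiv.coe_coe, LinearEquiv.symm_apply_apply, LinearMap.prodMap_apply, LinearMap.id_apply]
    simp only [E, Submodule.coe_prodEquivOfIsCompl', map_add]
    rw [hCg z ⟨g z, hZi.mem z.2⟩ rfl]

end Cfsg.Agent.Lib.SubfieldElusive
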