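import Mathlib
import Cfsg.Prelude.Def_GeometricClasses
import Cfsg.Agent.S5964
import Cfsg.Agent.Lib.Elusive.Linear
import Cfsg.Agent.Lib.Elusive.GrassCount
import Cfsg.Agent.Lib.Linear.Order
import Cfsg.Agent.Lib.ElusiveOrth.Witness
import Cfsg.Agent.Lib.ElusiveOrth.Exceptional
import Cfsg.Agent.Lib.SubfieldElusive.Rational

/-!
Elements of odd prime order of `SL` and conjugacy into a subfield group.
Owner: helper86.
-/

set_option autoImplicit false

namespace Cfsg.Agent.Lib.SubfieldElusive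

open Module
open scoped Matrix

variable {F : Type*} [Field F] [Fintype F] {n : ℕ} {F₀ : Subfield F} {q₀ k : ℕ}

/-- `x` has a conjugate in the subfield group. -/
def Fixes (F₀ : Subfield F) (x : Matrix.SpecialLinearGroup (Fin n) F) : Prop :=
  ∃ P : Matrix.SpecialLinearGroup (Fin n) F, P⁻¹ * x * P ∈ ((Cfsg.Geo.subfieldSubgroup F₀ 1).comap
    (Matrix.SpecialLinearGroup.toGL : Matrix.SpecialLinearGroup (Fin n) F →* GL (Fin n) F))

/-- `x` has projective order `r` and no conjugate in the subfield group. -/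
def IsMover (F₀ : Subfield F) (r : ℕ) (x : Matrix.SpecialLinearGroup (Fin n) F) : Prop :=
  (∃ z : F, ((x ^ r : Matrix.SpecialLinearGroup (Fin n) F) : Matrix (Fin n) (Fin n) F) =
    z • (1 : Matrix (Fin n) (Fin n) F)) ∧
  (∀ z : F, (x : Matrix (Fin n) (Fin n) F) ≠ z • (1 : Matrix (Fin n) (Fin n) F)) ∧ ¬ Fixes F₀ x

omit [Fintype F] in
/-- The conjugate over the subfield. -/
theorem exists_of_fixes {x : Matrix.SpecialLinearGroup (Fin n) F} (h : Fixes F₀ x) :
    ∃ (μ : F) (G : Matrix (Fin n) (Fin n) F₀) (P : Matrix.SpecialLinearGroup (Fin n) F), μ ≠ 0 ∧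
      (x : Matrix (Fin n) (Fin n) F) * P = P * (μ • G.map F₀.subtype) := by
  obtain ⟨P, hP⟩ := h
  obtain ⟨μ, G, hG⟩ := (S5964.mem_sub_iff _).mp hP
  refine ⟨μ, G, P, μ.ne_zero, ?_⟩
  rw [← hG, ← Matrix.SpecialLinearGroup.coe_mul, ← Matrix.SpecialLinearGroup.coe_mul,
    show P * (P⁻¹ * x * P) = x * P by group]

theorem card_eq (hF₀ : Nat.card F₀ = q₀) (hFk : Fintype.card F = q₀ ^ k) : finrank F₀ F = k := by
  haveI : Fintype F₀ := Fintype.ofFinite _
  have h := Module.card_eq_pow_finrank (K := F₀) (V := F)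
  rw [hFk, ← Nat.card_eq_fintype_card, hF₀] at h
  exact (Nat.pow_right_injective (hF₀ ▸ Finite.one_lt_card) h).symm

/-- The Frobenius of the subfield. -/
theorem exists_frobenius (hF₀ : Nat.card F₀ = q₀) :
    ∃ ψ : F →+* F, (∀ a, ψ a = a ^ q₀) ∧ ∀ a ∈ F₀, ψ a = a := by
  haveI : Fintype F₀ := Fintype.ofFinite _
  obtain ⟨p, hp⟩ := CharP.exists F
  haveI : Fact p.Prime := ⟨CharP.char_is_prime F p⟩
  haveI : ExpChar F p := ExpChar.prime Fact.out
  haveI : CharP F₀ p := (RingHom.charP_iff F₀.subtype F₀.subtype.injective p).mpr hp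
  obtain ⟨N, -, hN⟩ := FiniteField.card F₀ p
  have hq : q₀ = p ^ (N : ℕ) := by rw [← hF₀, Nat.card_eq_fintype_card, hN]
  refine ⟨iterateFrobenius F p N, fun a => by rw [hq]; rfl, fun a ha => ?_⟩
  have := FiniteField.pow_card (⟨a, ha⟩ : F₀)
  rw [← Nat.card_eq_fintype_card, hF₀] at this
  rw [show iterateFrobenius F p (N : ℕ) a = a ^ q₀ by rw [hq]; rfl]
  exact congrArg Subtype.val this

/-- The kernel of a matrix does not grow in an extension. -/
theorem finrank_ker_map (hF₀ : Nat.card F₀ = q₀) (hFk : Fintype.card F = q₀ ^ k)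
    (M : Matrix (Fin n) (Fin n) F₀) :
    finrank F (LinearMap.ker (Matrix.toLin' (M.map F₀.subtype))) =
      finrank F₀ (LinearMap.ker (Matrix.toLin' M)) := by
  classical
  haveI : Fintype F₀ := Fintype.ofFinite _
  let B := Module.finBasisOfFinrankEq F₀ F (card_eq hF₀ hFk)
  have hcoord : ∀ (v : Fin n → F) (i : Fin n) (l : Fin k),
      B.repr ((M.map F₀.subtype *ᵥ v) i) l = (M *ᵥ fun j => B.repr (v j) l) i := by
    intro v i l
    simp only [Matrix.mulVec, dotProduct, Matrix.map_apply]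
    rw [map_sum, Finsupp.coe_finset_sum, Finset.sum_apply]
    refine Finset.sum_congr rfl fun j _ => ?_
    rw [show F₀.subtype (M i j) * v j = M i j • v j from rfl, map_smul, Finsupp.smul_apply,
      smul_eq_mul]
  let e : LinearMap.ker (Matrix.toLin' (M.map F₀.subtype)) ≃
      (Fin k → LinearMap.ker (Matrix.toLin' M)) :=
    { toFun := fun v l => ⟨fun j => B.repr ((v : Fin n → F) j) l, by
        rw [LinearMap.mem_ker, Matrix.toLin'_apply]
        funext i
        rw [← hcoord, ← Matrix.toLin'_apply, LinearMap.mem_ker.mp v.2]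
        simp⟩
      invFun := fun u => ⟨fun j => ∑ l, (u l : Fin n → F₀) j • B l, by
        rw [LinearMap.mem_ker, Matrix.toLin'_apply]
        funext i
        refine B.repr.injective (Finsupp.ext fun l => ?_)
        rw [hcoord]
        simp only [B.repr_sum_self, Pi.zero_apply, map_zero, Finsupp.coe_zero]
        exact congrFun (LinearMap.mem_ker.mp (u l).2) i⟩
      left_inv := fun v => Subtype.ext (funext fun j => B.sum_repr _)
      right_inv := fun u => funext fun l => Subtype.ext (funext fun j => by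
        show B.repr (∑ l, (u l : Fin n → F₀) j • B l) l = _
        rw [B.repr_sum_self]) }
  have h := Nat.card_congr e
  have hL : Nat.card (LinearMap.ker (Matrix.toLin' (M.map F₀.subtype))) =
      (q₀ ^ k) ^ finrank F (LinearMap.ker (Matrix.toLin' (M.map F₀.subtype))) := by
    rw [Module.natCard_eq_pow_finrank (K := F), Nat.card_eq_fintype_card, hFk]
  have hR : Nat.card (LinearMap.ker (Matrix.toLin' M)) =
      q₀ ^ finrank F₀ (LinearMap.ker (Matrix.toLin' M)) := by
    rw [Module.natCard_eq_pow_finrank (K := F₀), hF₀]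
  rw [Nat.card_pi, Finset.prod_const, Finset.card_univ, Fintype.card_fin, hL, hR, ← pow_mul,
    ← pow_mul, mul_comm _ k] at h
  have hk : 0 < k := Nat.pos_of_ne_zero fun h0 => by
    have := Fintype.one_lt_card (α := F)
    rw [hFk, h0, pow_zero] at this
    exact lt_irrefl 1 this
  exact Nat.eq_of_mul_eq_mul_left hk (Nat.pow_right_injective (hF₀ ▸ Finite.one_lt_card) h)

/-! ### Movers -/

/-- One orbit on the roots of unity that splits over the subfield. -/
theorem exists_mover_orbit (hF₀ : Nat.card F₀ = q₀) (hFk : Fintype.card F = q₀ ^ k) {r : ℕ}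
    [hr : Fact r.Prime] (hrF : (r : F) ≠ 0) (h1 : ¬ r ∣ Fintype.card F - 1)
    (hin : orderOf (Fintype.card F : ZMod r) ≤ n)
    (hQ : (q₀ : ZMod r) ^ orderOf (Fintype.card F : ZMod r) ≠ 1) :
    ∃ x : Matrix.SpecialLinearGroup (Fin n) F, IsMover F₀ r x := by
  classical
  haveI : Fintype F₀ := Fintype.ofFinite _
  set i := orderOf (Fintype.card F : ZMod r) with hi
  have hi0 : 0 < i := Elusive.orderOf_card_pos hrF
  obtain ⟨g, hg, hge⟩ := Elusive.exists_split (V := Fin n → F) hrF (n - i) 1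
    (by rw [finrank_fin_fun, one_mul]; omega)
  have hroot : ∀ z : F, z ^ r = 1 → z = 1 := by
    intro z hz
    have hz0 : z ≠ 0 := fun h => by simp [h, hr.out.ne_zero] at hz
    rcases (Nat.dvd_prime hr.out).mp (orderOf_dvd_of_pow_eq_one hz) with h | h
    · exact orderOf_eq_one_iff.mp h
    · exact absurd (h ▸ orderOf_dvd_of_pow_eq_one (FiniteField.pow_card_sub_one_eq_one z hz0)) h1
  obtain ⟨x, hx⟩ := Elusive.Linear.exists_sl g (hroot _ (Elusive.det_pow_eq_one hg))
  refine ⟨x, ⟨1, by rw [Elusive.Linear.eq_smul_one_iff, Elusive.Linear.toLin_pow, hx, hg, one_smul]⟩,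
    fun z hz => ?_, fun hfix => ?_⟩
  · rw [Elusive.Linear.eq_smul_one_iff, hx] at hz
    subst hz
    haveI : Nonempty (Fin n) := ⟨⟨0, by omega⟩⟩
    rw [_root_.smul_pow, one_pow] at hg
    have hz1 : z ^ r = 1 := by
      simpa using congrFun (LinearMap.congr_fun hg (fun _ => 1)) (Classical.arbitrary (Fin n))
    rw [hroot z hz1, one_smul, show End.eigenspace (1 : Module.End F (Fin n → F)) 1 = ⊤ from
      eq_top_iff.mpr fun v _ => by rw [End.mem_eigenspace_iff, one_smul]; rfl, finrank_top,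
      finrank_fin_fun] at hge
    omega
  obtain ⟨μ, G, P, hμ, hxP⟩ := exists_of_fixes hfix
  set φ : F₀ →+* F := F₀.subtype
  set X : Matrix (Fin n) (Fin n) F := (x : Matrix (Fin n) (Fin n) F)
  have hXr : X ^ r = 1 := by
    refine Matrix.toLin'.injective ?_
    rw [Matrix.toLin'_pow, hx, hg, Matrix.toLin'_one]
    rfl
  have hPdet : IsUnit (P : Matrix (Fin n) (Fin n) F).det := by rw [P.2]; exact isUnit_one
  have hPi : ∀ A B : Matrix (Fin n) (Fin n) F, (P : Matrix (Fin n) (Fin n) F) * A = P * B → A = B :=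
    fun A B h => by
      have := congrArg (fun C => (P : Matrix (Fin n) (Fin n) F)⁻¹ * C) h
      rwa [← Matrix.mul_assoc, ← Matrix.mul_assoc, Matrix.nonsing_inv_mul _ hPdet, Matrix.one_mul,
        Matrix.one_mul] at this
  have hGr : μ ^ r • (G ^ r).map φ = (1 : Matrix (Fin n) (Fin n) F) := by
    refine hPi _ _ ?_
    rw [Matrix.mul_one]
    have hpow : ∀ l, X ^ l * P = P * (μ • G.map φ) ^ l := fun l => by
      induction l with
      | zero => simp
      | succ l ih => rw [pow_succ, Matrix.mul_assoc, hxP, ← Matrix.mul_assoc, ih, Matrix.mul_assoc,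
          ← pow_succ]
    have := hpow r
    rw [hXr, Matrix.one_mul, _root_.smul_pow, ← RingHom.mapMatrix_apply, ← map_pow,
      RingHom.mapMatrix_apply] at this
    exact this.symm
  set i₀ : Fin n := ⟨0, by omega⟩
  set c : F := φ ((G ^ r) i₀ i₀)
  have hc : μ ^ r * c = 1 := by
    have := congrFun (congrFun hGr i₀) i₀
    simpa using this
  obtain ⟨ψ, hψ, hψ₀⟩ := exists_frobenius hF₀
  have hψμ : ψ μ = μ := by
    have h2 : ψ μ ^ r * c = 1 := by
      rw [← hψ₀ c (SetLike.coe_mem _), ← map_pow, ← map_mul, hc, map_one]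
    have h3 : ψ μ ^ r = μ ^ r := mul_right_cancel₀ (right_ne_zero_of_mul_eq_one hc) (h2.trans hc.symm)
    have h4 : (ψ μ / μ) ^ r = 1 := by rw [div_pow, h3, div_self (pow_ne_zero _ hμ)]
    exact (div_eq_one_iff_eq hμ).mp (hroot _ h4)
  have hμF₀ : μ ∈ F₀ := mem_of_pow_eq hF₀ (by rw [← hψ, hψμ])
  -- `x` is similar to a matrix over the subfield
  set G' : Matrix (Fin n) (Fin n) F₀ := (⟨μ, hμF₀⟩ : F₀) • G
  have hG' : X * P = P * G'.map φ := by
    rw [hxP]
    congr 1
  have hG'r : G' ^ r = 1 := by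
    refine Matrix.map_injective φ.injective ?_
    show (G' ^ r).map φ = (1 : Matrix (Fin n) (Fin n) F₀).map φ
    rw [Matrix.map_one _ (map_zero φ) (map_one φ), show (G' ^ r).map φ = μ ^ r • (G ^ r).map φ from ?_, hGr]
    ext a b
    simp [G', _root_.smul_pow, φ]
  have hker : finrank F₀ (LinearMap.ker (Matrix.toLin' (G' - 1))) = n - i := by
    rw [← finrank_ker_map hF₀ hFk, ← hge]
    set Pl := Matrix.toLin' (P : Matrix (Fin n) (Fin n) F)
    have hinj : Function.Injective Pl :=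
      Matrix.mulVec_injective_of_isUnit ((Matrix.isUnit_iff_isUnit_det _).mpr hPdet)
    have hsur : Function.Surjective Pl := LinearMap.injective_iff_surjective.mp hinj
    have hmap : (LinearMap.ker (Matrix.toLin' ((G' - 1).map φ))).map Pl = End.eigenspace g 1 := by
      ext u
      obtain ⟨w, rfl⟩ := hsur u
      have hw : g (Pl w) = Pl (Matrix.toLin' (G'.map φ) w) := by
        rw [← hx, ← LinearMap.comp_apply, ← Matrix.toLin'_mul, hG', Matrix.toLin'_mul,
          LinearMap.comp_apply]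
      rw [End.mem_eigenspace_iff, one_smul, hw, hinj.eq_iff, Submodule.mem_map]
      simp only [hinj.eq_iff, exists_eq_right, LinearMap.mem_ker]
      rw [Matrix.map_sub φ (map_sub φ), Matrix.map_one _ (map_zero φ) (map_one φ), map_sub,
        LinearMap.sub_apply, Matrix.toLin'_one, LinearMap.id_apply, sub_eq_zero]
    rw [← hmap]
    exact (Submodule.equivMapOfInjective Pl hinj _).finrank_eq
  set T := Matrix.toLin' G'
  have hTr : T ^ r = (1 : F₀) ^ r • (1 : Module.End F₀ (Fin n → F₀)) := by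
    rw [← Matrix.toLin'_pow, hG'r, Matrix.toLin'_one, one_pow, one_smul]
    rfl
  have hrF₀ : (r : F₀) ≠ 0 := fun h => hrF (by
    have := congrArg φ h
    rwa [map_natCast, map_zero] at this)
  have hu := Elusive.isUniform_split (f := T) hrF₀ one_ne_zero hTr
  obtain ⟨s, -, -, hes⟩ := hu.exists_type (X := ⊤) (Elusive.Inv.top T)
  rw [finrank_top, finrank_fin_fun, top_inf_eq, End.eigenspace_def, one_smul,
    show T - 1 = Matrix.toLin' (G' - 1) by rw [map_sub, Matrix.toLin'_one]; rfl, hker,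
    ← Nat.card_eq_fintype_card, hF₀] at hes
  refine hQ (orderOf_dvd_iff_pow_eq_one.mp ⟨s, ?_⟩)
  rw [mul_comm]
  omega

/-- A diagonal element without a scalar multiple stable under the Frobenius of the subfield. -/
theorem exists_mover_diag (hF₀ : Nat.card F₀ = q₀) {r : ℕ} (w : Fin n → F) (hprod : ∏ i, w i = 1)
    (hz : ∃ z : F, ∀ i, w i ^ r = z) (hne : ∃ i j, w i ≠ w j)
    (hno : ∀ d : F, d ≠ 0 →
      ¬ ∀ a : F, Nat.card {j // w j = d * a ^ q₀} = Nat.card {i // w i = a}) :
    ∃ x : Matrix.SpecialLinearGroup (Fin n) F, IsMover F₀ r x := by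
  classical
  have hdet : (Matrix.diagonal w).det = 1 := by rw [Matrix.det_diagonal, hprod]
  obtain ⟨x, hxw⟩ : ∃ x : Matrix.SpecialLinearGroup (Fin n) F,
      (x : Matrix (Fin n) (Fin n) F) = Matrix.diagonal w := ⟨⟨_, hdet⟩, rfl⟩
  refine ⟨x, ?_, fun z hzs => ?_, fun hfix => ?_⟩
  · obtain ⟨z, hz⟩ := hz
    refine ⟨z, ?_⟩
    rw [Matrix.SpecialLinearGroup.coe_pow, hxw, Matrix.diagonal_pow, Matrix.smul_one_eq_diagonal]
    exact congrArg Matrix.diagonal (funext fun i => hz i)
  · obtain ⟨i, j, hij⟩ := hne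
    have h : Matrix.diagonal w = z • (1 : Matrix (Fin n) (Fin n) F) := hxw ▸ hzs
    rw [Matrix.smul_one_eq_diagonal] at h
    exact hij ((congrFun (Matrix.diagonal_injective h) i).trans
      (congrFun (Matrix.diagonal_injective h) j).symm)
  obtain ⟨μ, G, P, hμ, hxP⟩ := exists_of_fixes hfix
  rw [hxw] at hxP
  obtain ⟨ψ, hψ, hψ₀⟩ := exists_frobenius hF₀
  set c := μ⁻¹ with hc
  have hc0 : c ≠ 0 := inv_ne_zero hμ
  set v : Fin n → F := fun i => c * w i
  let Pu : (Matrix (Fin n) (Fin n) F)ˣ :=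
    ((Matrix.isUnit_iff_isUnit_det _).mpr (show IsUnit (P : Matrix (Fin n) (Fin n) F).det by
      rw [P.2]; exact isUnit_one)).unit
  have hsim : (Pu : Matrix (Fin n) (Fin n) F) * G.map F₀.subtype * (Pu⁻¹).val = Matrix.diagonal v := by
    have h1 : (P : Matrix (Fin n) (Fin n) F) * G.map F₀.subtype =
        Matrix.diagonal v * (P : Matrix (Fin n) (Fin n) F) := by
      have h2 := congrArg (fun A => c • A) hxP
      simp only [Matrix.mul_smul, smul_smul] at h2
      rw [hc, inv_mul_cancel₀ hμ, one_smul] at h2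
      rw [← h2, ← Matrix.smul_mul]
      congr 1
      ext a b
      rcases eq_or_ne a b with rfl | hab
      · simp [v, hc]
      · simp [hab]
    show (P : Matrix (Fin n) (Fin n) F) * _ * _ = _
    rw [h1, Matrix.mul_assoc]
    show Matrix.diagonal v * ((Pu : Matrix (Fin n) (Fin n) F) * (Pu⁻¹).val) = _
    rw [← Units.val_mul, mul_inv_cancel, Units.val_one, Matrix.mul_one]
  have hchar : (G.charpoly.map F₀.subtype) = ∏ i, (Polynomial.X - Polynomial.C (v i)) := by
    rw [← Matrix.charpoly_map, ← Matrix.charpoly_diagonal, ← hsim]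
    rw [Matrix.coe_units_inv]
    exact (Matrix.charpoly_units_conj Pu _).symm
  have hmult : Multiset.map (fun i => ψ (v i)) (Finset.univ : Finset (Fin n)).1 =
      Multiset.map v (Finset.univ : Finset (Fin n)).1 := by
    have h1 : ∏ i, (Polynomial.X - Polynomial.C (ψ (v i))) = ∏ i, (Polynomial.X - Polynomial.C (v i)) := by
      have h2 := congrArg (Polynomial.map ψ) hchar
      rw [Polynomial.map_map, Polynomial.map_prod] at h2
      simp only [Polynomial.map_sub, Polynomial.map_X, Polynomial.map_C] at h2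
      rw [← h2, show ψ.comp F₀.subtype = F₀.subtype from RingHom.ext fun a => hψ₀ a a.2, hchar]
    have key : ∀ u : Fin n → F, (∏ i, (Polynomial.X - Polynomial.C (u i))).roots =
        Multiset.map u (Finset.univ : Finset (Fin n)).1 := fun u => by
      rw [Finset.prod, show Multiset.map (fun i => Polynomial.X - Polynomial.C (u i)) Finset.univ.1 =
        (Multiset.map u Finset.univ.1).map (fun a => Polynomial.X - Polynomial.C a) by
          rw [Multiset.map_map]; rfl, Polynomial.roots_multiset_prod_X_sub_C]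
    have h3 := congrArg Polynomial.roots h1
    rwa [key, key] at h3
  refine hno (ψ c / c) (div_ne_zero ((map_ne_zero ψ).mpr hc0) hc0) fun a => ?_
  have hcount : ∀ (u : Fin n → F) (b : F),
      Multiset.count b (Multiset.map u (Finset.univ : Finset (Fin n)).1) = Nat.card {i // u i = b} := by
    intro u b
    rw [Multiset.count_map, Nat.card_eq_fintype_card, Fintype.card_subtype]
    simp only [eq_comm (a := b)]
    rfl
  have h4 := congrArg (Multiset.count (ψ (c * a))) hmult
  rw [hcount, hcount] at h4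
  rw [Nat.card_congr (Equiv.subtypeEquivRight (p := fun i => ψ (v i) = ψ (c * a))
    (q := fun i => w i = a) fun i => by rw [ψ.injective.eq_iff]; exact mul_right_inj' hc0),
    Nat.card_congr (Equiv.subtypeEquivRight (p := fun i => v i = ψ (c * a))
      (q := fun i => w i = ψ c / c * a ^ q₀) fun i => by
        rw [map_mul, hψ a]
        simp only [v]
        field_simp)] at h4
  exact h4.symm

/-- Roots of unity of order `r` in `F`, moved with order at least three. -/
theorem exists_mover_roots_three (hF₀ : Nat.card F₀ = q₀) (hn : 2 ≤ n) {r : ℕ} [hr : Fact r.Prime]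
    (h5 : 5 ≤ r) {ζ : F} (hζ : orderOf ζ = r) (hQ0 : (q₀ : ZMod r) ≠ 0)
    (hQ2 : (q₀ : ZMod r) ^ 2 ≠ 1) : ∃ x : Matrix.SpecialLinearGroup (Fin n) F, IsMover F₀ r x := by
  classical
  have hζr : ζ ^ r = 1 := hζ ▸ pow_orderOf_eq_one ζ
  have hζ0 : ζ ≠ 0 := fun h => by simp [h, hr.out.ne_zero] at hζr
  have hlog : ∀ a b : ℕ, ζ ^ a = ζ ^ b → (a : ZMod r) = b := fun a b h => by
    rw [ZMod.natCast_eq_natCast_iff', ← hζ]
    exact (isOfFinOrder_iff_pow_eq_one.mpr ⟨r, hr.out.pos, hζr⟩).pow_eq_pow_iff_modEq.mp h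
  have hsq : ζ ^ (q₀ * q₀) ≠ ζ := fun h => hQ2 (by
    have := hlog (q₀ * q₀) 1 (by rw [pow_one]; exact h)
    rw [pow_two]
    exact_mod_cast this)
  have hζ1 : ζ ≠ 1 := fun h => hr.out.ne_one (by rw [← hζ, h, orderOf_one])
  have hne2 : ζ ≠ ζ⁻¹ := fun h => by
    have h2 : ζ ^ 2 = 1 := by rw [pow_two]; nth_rewrite 2 [h]; exact mul_inv_cancel₀ hζ0
    have := Nat.le_of_dvd two_pos (hζ ▸ orderOf_dvd_of_pow_eq_one h2)
    omega
  -- the values and one positive count
  have hpos : ∀ (w : Fin n → F) (d : F),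
      (∀ a : F, Nat.card {j // w j = d * a ^ q₀} = Nat.card {i // w i = a}) →
      ∀ i, ∃ j, w j = d * w i ^ q₀ := fun w d h i => by
    have : 0 < Nat.card {j // w j = d * w i ^ q₀} := by
      rw [h]; exact Nat.card_pos_iff.mpr ⟨⟨⟨i, rfl⟩⟩, inferInstance⟩
    obtain ⟨⟨j, hj⟩⟩ := (Nat.card_pos_iff.mp this).1
    exact ⟨j, hj⟩
  set i₀ : Fin n := ⟨0, by omega⟩
  set i₁ : Fin n := ⟨1, by omega⟩
  have hne : i₀ ≠ i₁ := by simp [i₀, i₁, Fin.ext_iff]
  set w : Fin n → F := Function.update (Function.update (fun _ => 1) i₁ ζ⁻¹) i₀ ζ with hwdef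
  have hw0 : w i₀ = ζ := Function.update_self ..
  have hw1 : w i₁ = ζ⁻¹ := by rw [hwdef, Function.update_of_ne hne.symm, Function.update_self]
  have hwc : ∀ i, w i = ζ ∨ w i = ζ⁻¹ ∨ (w i = 1 ∧ i ≠ i₀ ∧ i ≠ i₁) := fun i => by
    rcases eq_or_ne i i₀ with rfl | h0
    · exact Or.inl hw0
    rcases eq_or_ne i i₁ with rfl | h1
    · exact Or.inr (Or.inl hw1)
    · exact Or.inr (Or.inr ⟨by simp [hwdef, h0, h1], h0, h1⟩)
  refine exists_mover_diag hF₀ w ?_ ⟨1, fun i => ?_⟩ ⟨i₀, i₁, by rw [hw0, hw1]; exact hne2⟩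
    fun d hd h => ?_
  · rw [hwdef, Finset.prod_update_of_mem (Finset.mem_univ _),
      Finset.prod_update_of_mem (by simp [hne.symm])]
    simp [hζ0]
  · rcases hwc i with h | h | ⟨h, -⟩ <;> simp [h, inv_pow, hζr]
  have hS : ∀ i, d * w i ^ q₀ = ζ ∨ d * w i ^ q₀ = ζ⁻¹ ∨ (d * w i ^ q₀ = 1 ∧ 3 ≤ n) := fun i => by
    obtain ⟨j, hj⟩ := hpos w d h i
    rcases hwc j with h' | h' | ⟨h', hj0, hj1⟩ <;> rw [h'] at hj
    · exact Or.inl hj.symm
    · exact Or.inr (Or.inl hj.symm)
    · refine Or.inr (Or.inr ⟨hj.symm, ?_⟩)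
      simp only [i₀, i₁, ne_eq, Fin.ext_iff] at hj0 hj1
      have := j.2
      omega
  have hu0 : ζ ^ q₀ ≠ 0 := pow_ne_zero _ hζ0
  set u := ζ ^ q₀ with hu
  have hA := hS i₀
  have hB := hS i₁
  rw [hw0, ← hu] at hA
  rw [hw1, inv_pow, ← hu] at hB
  have hu1 : u ≠ 1 := fun h1 => hQ0 (by
    have h0 := hlog q₀ 0 (by rw [← hu, h1, pow_zero])
    rwa [Nat.cast_zero] at h0)
  have hu2 : u ≠ u⁻¹ := fun h2 => hu1 (by
    have h3 : u ^ 2 = 1 := by rw [pow_two]; nth_rewrite 2 [h2]; exact mul_inv_cancel₀ hu0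
    have h4 : u ^ r = 1 := by rw [hu, ← pow_mul, mul_comm, pow_mul, hζr, one_pow]
    have hg : Nat.gcd 2 r = 1 := (Nat.coprime_primes Nat.prime_two hr.out).mpr (by omega)
    simpa [hg] using (pow_gcd_eq_one (m := 2) (n := r) (a := u)).mpr ⟨h3, h4⟩)
  have hAB : d * u ≠ d * u⁻¹ := fun h' => hu2 (mul_left_cancel₀ hd h')
  have hd1 : d = 1 := by
    have hdr : d ^ r = 1 := by
      have h4 : u ^ r = 1 := by rw [hu, ← pow_mul, mul_comm, pow_mul, hζr, one_pow]
      rcases hA with h' | h' | ⟨h', -⟩ <;>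
        (have h5 := congrArg (fun t => t ^ r) h'; simp only [mul_pow, h4, mul_one, inv_pow, hζr,
          inv_one, one_pow] at h5; exact h5)
    by_cases hn2 : n = 2
    · have h2 : d ^ 2 = 1 := by
        rcases hA with hA | hA | ⟨-, hA⟩
        rcases hB with hB | hB | ⟨-, hB⟩
        · exact absurd (hA.trans hB.symm) hAB
        · calc d ^ 2 = (d * u) * (d * u⁻¹) := by field_simp
            _ = 1 := by rw [hA, hB, mul_inv_cancel₀ hζ0]
        · omega
        rcases hB with hB | hB | ⟨-, hB⟩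
        · calc d ^ 2 = (d * u) * (d * u⁻¹) := by field_simp
            _ = 1 := by rw [hA, hB, inv_mul_cancel₀ hζ0]
        · exact absurd (hA.trans hB.symm) hAB
        · omega
        omega
      have hg : Nat.gcd 2 r = 1 := (Nat.coprime_primes Nat.prime_two hr.out).mpr (by omega)
      simpa [hg] using (pow_gcd_eq_one (m := 2) (n := r) (a := d)).mpr ⟨h2, hdr⟩
    · set i₂ : Fin n := ⟨2, by omega⟩
      have hw2 : w i₂ = 1 := by simp [hwdef, i₀, i₁, i₂, Fin.ext_iff]
      have hC := hS i₂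
      rw [hw2, one_pow, mul_one] at hC
      have hdu : d * u ≠ d := fun h' => hu1 (by rwa [mul_eq_left₀ hd] at h')
      have hdu' : d * u⁻¹ ≠ d := fun h' => hu1 (by rwa [mul_eq_left₀ hd, inv_eq_one] at h')
      have h3 : (d * u) * (d * u⁻¹) * d = ζ * ζ⁻¹ * 1 := by
        rcases hA with hA | hA | ⟨hA, -⟩ <;> rcases hB with hB | hB | ⟨hB, -⟩ <;>
          rcases hC with hC | hC | ⟨hC, -⟩ <;>
          first
            | exact absurd (hA.trans hB.symm) hAB
            | exact absurd (hA.trans hC.symm) hdu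
            | exact absurd (hB.trans hC.symm) hdu'
            | (rw [hA, hB, hC]; done)
            | (rw [hA, hB, hC]; ring)
      have h3' : d ^ 3 = 1 := by
        rw [mul_inv_cancel₀ hζ0, one_mul] at h3
        rw [← h3]; field_simp
      have hg : Nat.gcd 3 r = 1 := (Nat.coprime_primes Nat.prime_three hr.out).mpr (by omega)
      simpa [hg] using (pow_gcd_eq_one (m := 3) (n := r) (a := d)).mpr ⟨h3', hdr⟩
  rw [hd1, one_mul] at hA
  refine hsq ?_
  rw [pow_mul, ← hu]
  rcases hA with h' | h' | ⟨h', -⟩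
  · rw [h', ← hu, h']
  · rw [h', inv_pow, ← hu, h', inv_inv]
  · exact absurd h' hu1

end Cfsg.Agent.Lib.SubfieldElusive
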