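import Mathlib
import Cfsg.Agent.Lib.SubfieldElusive.Movers

/-!
The index of a subfield group in `SL`, and elements of odd prime order that always meet it.
Owner: helper86.
-/

set_option autoImplicit false

namespace Cfsg.Agent.Lib.SubfieldElusive

open Module
open scoped Matrix

variable {F : Type*} [Field F] [Fintype F] {n : ℕ} {F₀ : Subfield F} {q₀ k : ℕ}

theorem arith_of_index (hF₀ : Nat.card F₀ = q₀) (hFk : Fintype.card F = q₀ ^ k) (hn : 0 < n) {r : ℕ}
    [hr : Fact r.Prime] (hk : k.Prime) (hrk : r ≠ k) (hrF : (r : F) ≠ 0)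
    (h : r ∣ ((Cfsg.Geo.subfieldSubgroup F₀ 1).comap (Matrix.SpecialLinearGroup.toGL :
      Matrix.SpecialLinearGroup (Fin n) F →* GL (Fin n) F)).index) :
    ∃ j, 2 ≤ j ∧ j ≤ n ∧ (Fintype.card F : ZMod r) ^ j = 1 ∧ (q₀ : ZMod r) ^ j ≠ 1 := by
  classical
  haveI : Fintype F₀ := Fintype.ofFinite _
  set ψ := Matrix.SpecialLinearGroup.map (n := Fin n) F₀.subtype
  have hinj : Function.Injective ψ := fun a b h => by
    ext i j
    exact congrArg (fun y : Matrix.SpecialLinearGroup (Fin n) F => (y : Matrix (Fin n) (Fin n) F) i j) h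
  have hle : ψ.range ≤ ((Cfsg.Geo.subfieldSubgroup F₀ 1).comap (Matrix.SpecialLinearGroup.toGL :
      Matrix.SpecialLinearGroup (Fin n) F →* GL (Fin n) F)) := by
    rintro _ ⟨g, rfl⟩
    exact (S5964.mem_sub_iff _).mpr ⟨1, Matrix.SpecialLinearGroup.toGL g, by
      rw [Units.val_one, one_smul]; rfl⟩
  have hidx : r ∣ ψ.range.index := h.trans (Subgroup.index_dvd_of_le hle)
  have hcard := Subgroup.card_mul_index ψ.range
  rw [Nat.card_congr (MonoidHom.ofInjective hinj).toEquiv.symm] at hcard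
  have hA := Lib.Linear.sub_one_mul_card_SL (F := F) n hn
  have hB := Lib.Linear.sub_one_mul_card_SL (F := F₀) n hn
  rw [← hcard, hFk] at hA
  rw [← Nat.card_eq_fintype_card (α := F₀), hF₀] at hB
  have hP : ∀ Q : ℕ, ∏ i : Fin n, (Q ^ n - Q ^ (i : ℕ)) =
      Q ^ (∑ i ∈ Finset.range n, i) * Elusive.GrassCount.P Q n := fun Q => by
    have h1 := Elusive.GrassCount.P_sub_mul Q n n le_rfl
    rw [Nat.sub_self, show Elusive.GrassCount.P Q 0 = 1 by simp [Elusive.GrassCount.P], one_mul] at h1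
    rw [Fin.prod_univ_eq_prod_range (fun i => Q ^ n - Q ^ i) n,
      Elusive.GrassCount.prod_sub_eq _ _ _ le_rfl, h1]
  rw [hP] at hA hB
  have hq1 : 1 < q₀ := hF₀ ▸ Finite.one_lt_card
  let S : ℕ → ℕ := fun j => ∑ l ∈ Finset.range k, (q₀ ^ j) ^ l
  have hS : ∀ j, (q₀ ^ j - 1) * S j = (q₀ ^ k) ^ j - 1 := fun j => by
    rw [← pow_mul, mul_comm k j, pow_mul, mul_comm]
    exact geom_sum_mul_of_one_le (Nat.one_le_pow _ _ (by omega)) k
  set P₀ := Elusive.GrassCount.P q₀ n with hP₀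
  obtain ⟨n', rfl⟩ : ∃ n', n = n' + 1 := ⟨n - 1, by omega⟩
  set T := ∏ i ∈ Finset.range n', S (i + 2)
  have hPq : Elusive.GrassCount.P (q₀ ^ k) (n' + 1) = P₀ * (T * S 1) := by
    rw [hP₀, Elusive.GrassCount.P, Elusive.GrassCount.P,
      show T * S 1 = ∏ i ∈ Finset.range (n' + 1), S (i + 1) from
        (Finset.prod_range_succ' (fun i => S (i + 1)) n').symm, ← Finset.prod_mul_distrib]
    exact Finset.prod_congr rfl fun i _ => (hS (i + 1)).symm
  have h1 := hS 1
  rw [pow_one, pow_one] at h1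
  rw [hPq, ← h1] at hA
  set a := q₀ ^ ∑ i ∈ Finset.range (n' + 1), i
  set b := (q₀ ^ k) ^ ∑ i ∈ Finset.range (n' + 1), i with hb
  have hS1 : 0 < S 1 := by
    refine Finset.sum_pos (fun l _ => pow_pos (by rw [pow_one]; omega) l) ?_
    exact Finset.nonempty_range_iff.mpr hk.ne_zero
  have hmain : a * ψ.range.index = b * T := by
    refine Nat.eq_of_mul_eq_mul_left (Nat.mul_pos (Elusive.GrassCount.P_pos hq1 (n' + 1)) hS1) ?_
    rw [← hP₀]
    calc P₀ * S 1 * (a * ψ.range.index) = a * P₀ * S 1 * ψ.range.index := by ring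
      _ = (q₀ - 1) * Nat.card (Matrix.SpecialLinearGroup (Fin (n' + 1)) F₀) * S 1 * ψ.range.index := by
        rw [hB]
      _ = (q₀ - 1) * S 1 * (Nat.card (Matrix.SpecialLinearGroup (Fin (n' + 1)) F₀) * ψ.range.index) := by
        ring
      _ = b * (P₀ * (T * S 1)) := hA
      _ = P₀ * S 1 * (b * T) := by ring
  have hrb : ¬ r ∣ b := fun hd => hrF (by
    have hd' : r ∣ Fintype.card F := hFk ▸ hr.out.dvd_of_dvd_pow hd
    obtain ⟨p, hp⟩ := CharP.exists F
    haveI : Fact p.Prime := ⟨CharP.char_is_prime F p⟩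
    obtain ⟨N, hN⟩ := FiniteField.card F p
    rw [(Nat.prime_dvd_prime_iff_eq hr.out hN.1).mp (hr.out.dvd_of_dvd_pow (hN.2 ▸ hd'))]
    exact CharP.cast_eq_zero F p)
  obtain ⟨i, hi, hd⟩ := (Prime.dvd_finsetProd_iff hr.out.prime _).mp
    ((hr.out.dvd_mul.mp (hmain ▸ hidx.mul_left a)).resolve_left hrb)
  rw [Finset.mem_range] at hi
  refine ⟨i + 2, by omega, by omega, ?_, fun hQ => ?_⟩
  · have h2 : r ∣ (q₀ ^ k) ^ (i + 2) - 1 := hS (i + 2) ▸ hd.mul_left _
    rw [← ZMod.natCast_eq_zero_iff, Nat.cast_sub (Nat.one_le_pow _ _ (pow_pos (by omega) _)),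
      sub_eq_zero] at h2
    rw [hFk]
    simpa using h2
  · rw [← ZMod.natCast_eq_zero_iff] at hd
    simp only [S, Nat.cast_sum, Nat.cast_pow, hQ, one_pow, Finset.sum_const, Finset.card_range,
      nsmul_eq_mul, mul_one] at hd
    rw [ZMod.natCast_eq_zero_iff] at hd
    exact hrk ((Nat.prime_dvd_prime_iff_eq hr.out hk).mp hd)

/-- Roots of unity inverted by the Frobenius of the subfield. -/
theorem exists_mover_inverted (hF₀ : Nat.card F₀ = q₀) (hn : 3 ≤ n) {r : ℕ} [hr : Fact r.Prime]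
    (hr2 : r ≠ 2) (hdvd : r ∣ q₀ + 1) (hgap : ¬ (n = 6 ∧ r = 3))
    (hexc : ¬ (r = n ∧ (n = 3 ∨ n = 5) ∧ padicValNat r (q₀ + 1) = 1))
    (hFk : Fintype.card F = q₀ ^ 2) :
    ∃ x : Matrix.SpecialLinearGroup (Fin n) F, IsMover F₀ r x := by
  classical
  have hq1 : 1 < q₀ := hF₀ ▸ Finite.one_lt_card
  have hgen : ∀ N, N ∣ q₀ + 1 → ∃ u : F, orderOf u = N := by
    intro N hN
    obtain ⟨g, hg⟩ := IsCyclic.exists_generator (α := Fˣ)
    have ho : orderOf g = Fintype.card F - 1 := by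
      rw [orderOf_eq_card_of_forall_mem_zpowers hg, Nat.card_units, Nat.card_eq_fintype_card]
    have hd : N ∣ orderOf g := by
      rw [ho, hFk, ← one_pow 2, Nat.sq_sub_sq]
      exact hN.mul_right _
    exact ⟨((g ^ (orderOf g / N) : Fˣ) : F), by
      rw [orderOf_units]; exact orderOf_pow_orderOf_div (orderOf_pos g).ne' hd⟩
  obtain ⟨ζ, hζ⟩ := hgen r hdvd
  obtain ⟨w, ⟨hprod, ⟨z, hz⟩, hne, hpair⟩⟩ : ∃ w : Fin n → F, ElusiveOrth.IsWitness r w := by
    by_cases hroot : n = r ∧ 2 ≤ padicValNat r (q₀ + 1)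
    · obtain ⟨ε, hε⟩ := hgen (r ^ 2) ((pow_dvd_pow r hroot.2).trans pow_padicValNat_dvd)
      obtain ⟨w, hw, -⟩ := ElusiveOrth.exists_witness_of_root_sq hr2 hroot.1 hε (RingHom.id F) rfl
      exact ⟨w, hw⟩
    have hne : ¬ ((r = 3 ∨ r = 5) ∧ n = r) := by
      rintro ⟨h35, hnr⟩
      have := one_le_padicValNat_of_dvd (p := r) (by omega) hdvd
      exact hexc ⟨hnr.symm, by omega, by
        have := not_and.mp hroot hnr
        omega⟩
    by_cases h3 : r = 3
    · subst h3
      obtain ⟨w, hw, -⟩ := ElusiveOrth.exists_witness_three (n := n) hζ (by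
        rcases hn.lt_or_eq with h | h
        · omega
        · exact absurd ⟨Or.inl rfl, h.symm⟩ hne) (fun h => hgap ⟨h, rfl⟩) (RingHom.id F) rfl
      exact ⟨w, hw⟩
    · have hr5 : 5 ≤ r := by
        have := hr.out.two_le
        rcases Nat.lt_or_ge r 5 with h | h
        · have : r = 4 := by omega
          exact absurd hr.out (this ▸ by norm_num)
        · exact h
      obtain ⟨w, hw, -⟩ := ElusiveOrth.exists_witness_five (n := n) hζ hr.out hr5 hn
        (fun h => hne ⟨Or.inr h.2, h.1.trans h.2.symm⟩) (RingHom.id F) rfl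
      exact ⟨w, hw⟩
  refine exists_mover_diag hF₀ w hprod ⟨z, hz⟩ hne fun d hd hall => ?_
  have hw0 : ∀ i, w i ≠ 0 := fun i h => by
    rw [Finset.prod_eq_zero (Finset.mem_univ i) h] at hprod
    exact zero_ne_one hprod
  set i₀ : Fin n := ⟨0, by omega⟩
  have hnorm : ∀ i, w i ^ q₀ * w i = w i₀ ^ (q₀ + 1) := fun i => by
    rw [← pow_succ]
    obtain ⟨t, ht⟩ := hdvd
    rw [ht, pow_mul, pow_mul, hz, hz]
  obtain ⟨a, ha, hlt⟩ := hpair (d * w i₀ ^ (q₀ + 1)) (mul_ne_zero hd (pow_ne_zero _ (hw0 _)))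
  obtain ⟨⟨i, hi⟩⟩ : Nonempty {i // w i = a} :=
    (Nat.card_pos_iff.mp (lt_of_le_of_lt (Nat.zero_le _) hlt)).1
  have heq : d * a ^ q₀ = d * w i₀ ^ (q₀ + 1) / a := by
    rw [eq_div_iff ha, mul_assoc, ← hi, hnorm]
  exact hlt.ne (by rw [← hall a, heq])

/-- A matrix over `F₀` in a suitable basis, with a centraliser of every determinant. -/
theorem fixes_of_basis (x : Matrix.SpecialLinearGroup (Fin n) F) {μ : F} (hμ : μ ≠ 0)
    (b : Basis (Fin n) F (Fin n → F)) (M : Fin n → Fin n → F) (hM : ∀ l j, M l j ∈ F₀)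
    (h : ∀ j, Matrix.toLin' (x : Matrix (Fin n) (Fin n) F) (b j) = μ • ∑ l, M l j • b l)
    (hC : ∀ δ : F, δ ≠ 0 → ∃ C : Module.End F (Fin n → F), LinearMap.det C = δ ∧
      C * Matrix.toLin' (x : Matrix (Fin n) (Fin n) F) =
        Matrix.toLin' (x : Matrix (Fin n) (Fin n) F) * C) :
    Fixes F₀ x := by
  classical
  let L : (Fin n → F) ≃ₗ[F] (Fin n → F) := (Pi.basisFun F (Fin n)).equiv b (Equiv.refl _)
  have hL : ∀ j, (L : Module.End F (Fin n → F)) (Pi.single j 1) = b j := fun j => by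
    rw [LinearEquiv.coe_coe, ← Pi.basisFun_apply F (Fin n) j, Basis.equiv_apply, Equiv.refl_apply]
  have hdL : LinearMap.det (L : Module.End F (Fin n → F)) ≠ 0 := (LinearEquiv.isUnit_det' L).ne_zero
  obtain ⟨C, hCd, hCx⟩ := hC _ (inv_ne_zero hdL)
  let G : Matrix (Fin n) (Fin n) F₀ := Matrix.of fun l j => ⟨M l j, hM l j⟩
  refine S5964.exists_conj x (LinearMap.toMatrix' (C * (L : Module.End F (Fin n → F)))) ?_ μ hμ G ?_
  · rw [LinearMap.det_toMatrix', map_mul, hCd, inv_mul_cancel₀ hdL]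
  · refine Matrix.toLin'.injective ((Pi.basisFun F (Fin n)).ext fun j => ?_)
    rw [Matrix.toLin'_mul, Matrix.toLin'_mul, Matrix.toLin'_toMatrix', LinearMap.comp_apply,
      LinearMap.comp_apply, Pi.basisFun_apply, Module.End.mul_apply, hL,
      ← Module.End.mul_apply (f := Matrix.toLin' _), ← hCx, Module.End.mul_apply, h]
    have hG : Matrix.toLin' (μ • G.map F₀.subtype) (Pi.single j 1) =
        μ • ∑ l, M l j • (Pi.single l 1 : Fin n → F) := by
      rw [Matrix.toLin'_apply]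
      ext i
      simp [G, Pi.single_apply]
    rw [hG]
    simp only [map_smul, map_sum, Module.End.mul_apply, hL]

/-- Orbits of the two Frobenius maps agree: every split element fixes a point. -/
theorem fixes_split (hF₀ : Nat.card F₀ = q₀) (hn : 0 < n) {r : ℕ} [hr : Fact r.Prime]
    (hrF : (r : F) ≠ 0) (hqr : (q₀ : ZMod r) = (Fintype.card F : ZMod r))
    (x : Matrix.SpecialLinearGroup (Fin n) F) {μ : F} (hμ : μ ≠ 0)
    (hx : Matrix.toLin' (x : Matrix (Fin n) (Fin n) F) ^ r = μ ^ r • 1) : Fixes F₀ x := by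
  classical
  set X := Matrix.toLin' (x : Matrix (Fin n) (Fin n) F)
  set g := μ⁻¹ • X with hgdef
  have hg : g ^ r = 1 := by
    rw [hgdef, _root_.smul_pow, hx, smul_smul, ← mul_pow, inv_mul_cancel₀ hμ, one_pow, one_smul]
  have hXg : X = μ • g := by rw [hgdef, smul_smul, mul_inv_cancel₀ hμ, one_smul]
  obtain ⟨d, b, hb, hbs, M, hM, hMb⟩ := rational hrF hF₀ hqr hg ⊤ (Elusive.Inv.top g)
  have hd : d = n := by
    have := finrank_span_eq_card hb
    rwa [hbs, finrank_top, finrank_fin_fun, Fintype.card_fin, eq_comm] at this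
  subst hd
  haveI : Nonempty (Fin d) := ⟨⟨0, hn⟩⟩
  refine fixes_of_basis x hμ (Basis.mk hb hbs.ge) M hM (fun j => ?_) fun δ hδ => ?_
  · simp only [Basis.mk_apply]
    show X (b j) = _
    rw [hXg, LinearMap.smul_apply, hMb]
  · obtain ⟨C, hCd, hC⟩ := exists_commute_det hrF hF₀ hqr hg δ hδ
    refine ⟨C, hCd, ?_⟩
    show C * X = X * C
    rw [hXg, mul_smul_comm, hC]
    exact (smul_mul_assoc μ g C).symm

/-- The exceptional cases. -/
theorem fixes_exc (hF₀ : Nat.card F₀ = q₀) (hFk : Fintype.card F = q₀ ^ 2) {r : ℕ} [hr : Fact r.Prime]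
    (h35 : r = 3 ∨ r = 5) (hnr : n = r) (hrF : (r : F) ≠ 0) (hv : padicValNat r (q₀ + 1) = 1)
    (x : Matrix.SpecialLinearGroup (Fin n) F) {z : F}
    (hz : ((x ^ r : Matrix.SpecialLinearGroup (Fin n) F) : Matrix (Fin n) (Fin n) F) =
      z • (1 : Matrix (Fin n) (Fin n) F)) : Fixes F₀ x := by
  classical
  subst hnr
  have hn3 : 3 ≤ n := by omega
  haveI : Nonempty (Fin n) := ⟨⟨0, by omega⟩⟩
  have hq1 : 1 < q₀ := hF₀ ▸ Finite.one_lt_card
  have hdq : n ∣ q₀ + 1 := dvd_of_one_le_padicValNat hv.ge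
  have hsplit : Fintype.card F - 1 = (q₀ + 1) * (q₀ - 1) := by
    have h := Nat.sq_sub_sq q₀ 1
    rw [one_pow] at h
    rw [hFk, h]
  have hdvd : n ∣ Fintype.card F - 1 := hsplit ▸ hdq.mul_right _
  have hv' : padicValNat n (Fintype.card F - 1) = 1 := by
    have h1 : ¬ n ∣ q₀ - 1 := fun h => by
      have h' := Nat.dvd_sub hdq h
      rw [show q₀ + 1 - (q₀ - 1) = 2 by omega] at h'
      have := Nat.le_of_dvd two_pos h'
      omega
    rw [hsplit, padicValNat.mul (by omega) (by omega), padicValNat.eq_zero_of_not_dvd h1, hv]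
  obtain ⟨u, hu⟩ := exists_prime_orderOf_dvd_card n (show n ∣ Fintype.card Fˣ by rwa [Fintype.card_units])
  have hζ : IsPrimitiveRoot (u : F) n := by
    rw [IsPrimitiveRoot.coe_units_iff, ← hu]; exact IsPrimitiveRoot.orderOf u
  set g := Matrix.toLin' (x : Matrix (Fin n) (Fin n) F) with hg
  rw [Elusive.Linear.eq_smul_one_iff, Elusive.Linear.toLin_pow, ← hg] at hz
  have hdet : LinearMap.det g = 1 := by
    rw [hg, LinearMap.det_toLin']
    exact x.2
  have hzn : z ^ n = 1 := by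
    have h1 := congrArg LinearMap.det hz
    rw [map_pow, hdet, one_pow, LinearMap.det_smul, map_one, mul_one, finrank_fin_fun] at h1
    exact h1.symm
  have hpow : ∃ c : F, c ^ n = z := by
    by_contra hc
    push Not at hc
    obtain ⟨s, hs, hd⟩ := Elusive.nonsplit_det hc hz
    rw [finrank_fin_fun] at hs
    have hs1 : s = 1 := (Nat.mul_eq_left (by omega)).mp hs.symm
    have hodd : Odd n := hr.out.odd_of_ne_two (by omega)
    rw [hdet, hs1, pow_one, hodd.add_one.neg_one_pow, one_mul] at hd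
    exact hc 1 (by rw [one_pow]; exact hd)
  obtain ⟨c, hc⟩ := hpow
  have hz1 : z = 1 := by
    have hc0 : c ≠ 0 := fun h => by
      rw [← hc, h, zero_pow (by omega), zero_pow (by omega)] at hzn
      exact zero_ne_one hzn
    have h1 : orderOf c ∣ n ^ 2 := orderOf_dvd_of_pow_eq_one (by rw [pow_two, pow_mul, hc, hzn])
    have h2 : orderOf c ∣ Fintype.card F - 1 :=
      orderOf_dvd_of_pow_eq_one (FiniteField.pow_card_sub_one_eq_one c hc0)
    obtain ⟨l, hl, hlo⟩ := (Nat.dvd_prime_pow hr.out).mp h1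
    have hl1 : l ≤ 1 := by
      rw [hlo] at h2
      have hq1 : 1 < Fintype.card F := Fintype.one_lt_card
      have := (padicValNat_dvd_iff_le (p := n) (by omega)).mp h2
      omega
    rw [← hc]
    exact orderOf_dvd_iff_pow_eq_one.mp (hlo ▸ (pow_dvd_pow n hl1).trans (pow_one n).dvd)
  rw [hz1, one_smul] at hz
  obtain ⟨b, a, hab⟩ := ElusiveOrth.exists_eigenbasis hrF hζ g hz
  let w : Fin n → F := fun i => (u : F) ^ (a i).val
  have hw0 : ∀ i, w i ≠ 0 := fun i => pow_ne_zero _ u.ne_zero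
  have hwq : ∀ i, w i ^ q₀ * w i = 1 := fun i => by
    obtain ⟨t, ht⟩ := hdq
    simp only [w]
    rw [← pow_succ, ← pow_mul, ht, mul_left_comm, pow_mul, hζ.pow_eq_one, one_pow]
  have hsum : ∑ i, a i = 0 := by
    have h1 : g = Matrix.toLin b b (Matrix.diagonal w) := b.ext fun i => by
      rw [hab, Matrix.toLin_self, Finset.sum_eq_single i]
      · simp [w]
      · intro j _ hj; simp [Matrix.diagonal_apply_ne _ hj]
      · simp
    rw [h1, LinearMap.det_toLin, Matrix.det_diagonal] at hdet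
    simp only [w, Finset.prod_pow_eq_pow_sum] at hdet
    have h2 := (hζ.pow_eq_one_iff_dvd _).mp hdet
    rw [← ZMod.natCast_eq_zero_iff, Nat.cast_sum] at h2
    simpa using h2
  have hval : ∀ i j k, a i + a j = 2 * a k → w i * w j = w k * w k := fun i j k h => by
    simp only [w, ← pow_add]
    rw [← pow_mod_orderOf, ← pow_mod_orderOf _ ((a k).val + (a k).val), ← hζ.eq_orderOf]
    congr 1
    rw [← ZMod.val_add, ← ZMod.val_add, h, two_mul]
  obtain ⟨m, σ, hm, hp⟩ : ∃ (m : ℕ) (σ : (Fin m ⊕ Fin m) ⊕ Unit ≃ Fin n), 2 * m + 1 = n ∧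
      ∀ k, w (σ (.inl (.inl k))) * w (σ (.inl (.inr k))) = w (σ (.inr ())) * w (σ (.inr ())) := by
    rcases h35 with rfl | rfl
    · let σ : (Fin 1 ⊕ Fin 1) ⊕ Unit ≃ Fin 3 :=
        { toFun := Sum.elim (Sum.elim (fun _ => 0) (fun _ => 1)) (fun _ => 2)
          invFun := ![.inl (.inl 0), .inl (.inr 0), .inr ()]
          left_inv := by rintro ((i | i) | ⟨⟩) <;> simp [Fin.fin_one_eq_zero]
          right_inv := by intro i; fin_cases i <;> rfl }
      refine ⟨1, σ, rfl, fun k => hval 0 1 2 ?_⟩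
      rw [Fin.sum_univ_three] at hsum
      have h3 : (3 : ZMod 3) = 0 := by exact_mod_cast ZMod.natCast_self 3
      linear_combination hsum - a 2 * h3
    · obtain ⟨π, h12, h34⟩ := ElusiveOrth.pairing_five a hsum
      let σ₀ : (Fin 2 ⊕ Fin 2) ⊕ Unit ≃ Fin 5 :=
        { toFun := Sum.elim (Sum.elim ![1, 3] ![2, 4]) (fun _ => 0)
          invFun := ![.inr (), .inl (.inl 0), .inl (.inr 0), .inl (.inl 1), .inl (.inr 1)]
          left_inv := by rintro ((i | i) | ⟨⟩) <;> first | rfl | (fin_cases i <;> rfl)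
          right_inv := by intro i; fin_cases i <;> rfl }
      refine ⟨2, σ₀.trans π, rfl, fun k => ?_⟩
      fin_cases k
      · exact hval _ _ _ h12
      · exact hval _ _ _ h34
  -- the middle eigenvalue is the scalar
  set μ := w (σ (.inr ())) with hμ
  obtain ⟨ψ, hψ, -⟩ := exists_frobenius hF₀
  have hψψ : ∀ y, ψ (ψ y) = y := fun y => by
    rw [hψ, hψ, ← pow_mul, ← pow_two, ← hFk, FiniteField.pow_card]
  obtain ⟨α, hα⟩ : ∃ α : F, ψ α ≠ α := by
    by_contra hall
    push Not at hall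
    have hsurj : Function.Surjective ((↑) : F₀ → F) := fun y =>
      ⟨⟨y, mem_of_pow_eq hF₀ (by rw [← hψ]; exact hall y)⟩, rfl⟩
    have := Nat.card_le_card_of_surjective _ hsurj
    rw [hF₀, Nat.card_eq_fintype_card, hFk] at this
    nlinarith
  let t : Fin m → F := fun i => w (σ (.inl (.inl i))) / μ
  have ht : ∀ i, ψ (t i) * μ = w (σ (.inl (.inr i))) := fun i => by
    have h1 := hwq (σ (.inl (.inl i)))
    have h2 := hwq (σ (.inr ()))
    have h3 := hp i
    simp only [t, hψ, div_pow]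
    rw [div_mul_eq_mul_div, div_eq_iff (pow_ne_zero _ (hw0 _))]
    refine mul_right_cancel₀ (mul_ne_zero (hw0 (σ (.inl (.inl i)))) (hw0 (σ (.inr ())))) ?_
    linear_combination (μ * μ) * h1 - (w (σ (.inl (.inr i))) * w (σ (.inl (.inl i)))) * h2 - h3
  let E : (Fin m ⊕ Fin m) ⊕ Unit → Fin n → F := fun s => b (σ s)
  let U : (Fin m ⊕ Fin m) ⊕ Unit → Fin n → F :=
    Sum.elim (Sum.elim (fun i => E (.inl (.inl i)) + E (.inl (.inr i)))
      (fun i => α • E (.inl (.inl i)) + ψ α • E (.inl (.inr i)))) (fun s => E (.inr s))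
  have hspan : ⊤ ≤ Submodule.span F (Set.range U) := by
    rw [← b.span_eq, Submodule.span_le]
    rintro _ ⟨i, rfl⟩
    obtain ⟨s, rfl⟩ := σ.surjective i
    have hm' : ∀ j, U j ∈ Submodule.span F (Set.range U) := fun j => Submodule.subset_span ⟨j, rfl⟩
    have hαβ : ψ α - α ≠ 0 := sub_ne_zero.mpr hα
    rcases s with (l | l) | s
    · rw [show b (σ (.inl (.inl l))) =
        (ψ α - α)⁻¹ • (ψ α • U (.inl (.inl l)) - U (.inl (.inr l))) by
        rw [show ψ α • U (.inl (.inl l)) - U (.inl (.inr l)) = (ψ α - α) • E (.inl (.inl l)) by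
          simp only [U, Sum.elim_inl, Sum.elim_inr]; module, inv_smul_smul₀ hαβ]]
      exact Submodule.smul_mem _ _ (Submodule.sub_mem _ (Submodule.smul_mem _ _ (hm' _)) (hm' _))
    · rw [show b (σ (.inl (.inr l))) =
        (ψ α - α)⁻¹ • (U (.inl (.inr l)) - α • U (.inl (.inl l))) by
        rw [show U (.inl (.inr l)) - α • U (.inl (.inl l)) = (ψ α - α) • E (.inl (.inr l)) by
          simp only [U, Sum.elim_inl, Sum.elim_inr]; module, inv_smul_smul₀ hαβ]]
      exact Submodule.smul_mem _ _ (Submodule.sub_mem _ (hm' _) (Submodule.smul_mem _ _ (hm' _)))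
    · exact hm' (.inr s)
  have hcard : Fintype.card ((Fin m ⊕ Fin m) ⊕ Unit) = finrank F (Fin n → F) := by
    simp; omega
  let B := basisOfTopLeSpanOfCardEqFinrank U hspan hcard
  have hBU : ⇑B = U := coe_basisOfTopLeSpanOfCardEqFinrank U hspan hcard
  -- coordinates fixed by the Frobenius
  let β : F → F := fun y => (y - ψ y) / (α - ψ α)
  let γ : F → F := fun y => y - β y * α
  have hden : α - ψ α ≠ 0 := sub_ne_zero.mpr (Ne.symm hα)
  have hβ : ∀ y, β y ∈ F₀ := fun y => mem_of_pow_eq hF₀ (by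
    rw [← hψ]
    simp only [β, map_div₀, map_sub, hψψ]
    rw [div_eq_div_iff (by rw [ne_eq, sub_eq_zero]; exact hα) hden]
    ring)
  have hγψ : ∀ y, ψ (γ y) = γ y := fun y => by
    have h1 : ψ (β y) = β y := by
      simp only [β, map_div₀, map_sub, hψψ]
      rw [div_eq_div_iff (by rw [ne_eq, sub_eq_zero]; exact hα) hden]
      ring
    simp only [γ, map_sub, map_mul, h1]
    simp only [β]
    field_simp
    ring
  have hγ : ∀ y, γ y ∈ F₀ := fun y => mem_of_pow_eq hF₀ (by rw [← hψ]; exact hγψ y)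
  have hcomb : ∀ y l, γ y • U (.inl (.inl l)) + β y • U (.inl (.inr l)) =
      y • E (.inl (.inl l)) + ψ y • E (.inl (.inr l)) := fun y l => by
    have e1 : γ y + β y * α = y := by simp only [γ]; ring
    have e2 : γ y + β y * ψ α = ψ y := by
      simp only [γ, β]
      field_simp
      ring
    rw [show y • E (.inl (.inl l)) + ψ y • E (.inl (.inr l)) =
      (γ y + β y * α) • E (.inl (.inl l)) + (γ y + β y * ψ α) • E (.inl (.inr l)) by rw [e1, e2]]
    simp only [U, Sum.elim_inl, Sum.elim_inr]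
    module
  let N : (Fin m ⊕ Fin m) ⊕ Unit → (Fin m ⊕ Fin m) ⊕ Unit → F := fun s j =>
    Sum.elim (Sum.elim
      (fun i => Sum.elim (Sum.elim (fun l => if i = l then γ (t l) else 0)
        (fun l => if i = l then γ (α * t l) else 0)) (fun _ => 0) j)
      (fun i => Sum.elim (Sum.elim (fun l => if i = l then β (t l) else 0)
        (fun l => if i = l then β (α * t l) else 0)) (fun _ => 0) j))
      (fun _ => Sum.elim (fun _ => 0) (fun _ => 1) j) s
  have hN : ∀ s j, N s j ∈ F₀ := by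
    rintro ((i | i) | i) ((j | j) | j) <;>
      simp only [N, Sum.elim_inl, Sum.elim_inr] <;>
      (try split_ifs) <;> first | exact F₀.zero_mem | exact F₀.one_mem | exact hγ _ | exact hβ _
  let e : (Fin m ⊕ Fin m) ⊕ Unit ≃ Fin n := σ
  refine fixes_of_basis x (hw0 (σ (.inr ()))) (B.reindex e) (fun l j => N (e.symm l) (e.symm j))
    (fun l j => hN _ _) (fun j => ?_) fun δ _ => ?_
  · rw [← hμ, ← hg, ← e.sum_comp (fun l => N (e.symm l) (e.symm j) • B.reindex e l)]
    obtain ⟨s, rfl⟩ := e.surjective j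
    simp only [Basis.reindex_apply, Equiv.symm_apply_apply, hBU]
    rw [Fintype.sum_sum_type, Fintype.sum_sum_type]
    rcases s with (l | l) | s
    · simp only [N, Sum.elim_inl, Sum.elim_inr, ite_smul, zero_smul, Finset.sum_ite_eq',
        Finset.mem_univ, if_true, Finset.sum_const_zero, add_zero, hcomb]
      simp only [U, E, Sum.elim_inl, map_add, hab]
      rw [smul_add, smul_smul, smul_smul, mul_comm μ (ψ (t l)), ht, mul_div_cancel₀ _ (hw0 _)]
    · simp only [N, Sum.elim_inl, Sum.elim_inr, ite_smul, zero_smul, Finset.sum_ite_eq',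
        Finset.mem_univ, if_true, Finset.sum_const_zero, add_zero, hcomb]
      simp only [U, E, Sum.elim_inl, Sum.elim_inr, map_add, map_smul, hab]
      rw [smul_add, smul_smul, smul_smul, smul_smul, smul_smul, map_mul ψ, mul_left_comm μ (ψ α),
        mul_comm μ (ψ (t l)), ht, mul_left_comm μ α, mul_div_cancel₀ _ (hw0 _)]
    · simp only [N, Sum.elim_inl, Sum.elim_inr, zero_smul, Finset.sum_const_zero, zero_add,
        Finset.univ_unique, Finset.sum_singleton, one_smul]
      simp only [U, E, Sum.elim_inr, hab]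
      rfl
  · let i₁ := σ (.inr ())
    let v : Fin n → F := Function.update (fun _ => 1) i₁ δ
    let C : Module.End F (Fin n → F) := Matrix.toLin b b (Matrix.diagonal v)
    have hC : ∀ i, C (b i) = v i • b i := fun i => by
      rw [Matrix.toLin_self, Finset.sum_eq_single i]
      · simp
      · intro j _ hj; simp [Matrix.diagonal_apply_ne _ hj]
      · simp
    refine ⟨C, ?_, b.ext fun i => ?_⟩
    · rw [LinearMap.det_toLin, Matrix.det_diagonal, Finset.prod_eq_single i₁
        (fun i _ hi => by simp [v, hi]) (by simp)]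
      simp [v]
    · rw [← hg]
      simp only [Module.End.mul_apply, hC, hab, map_smul, smul_smul, mul_comm]

end Cfsg.Agent.Lib.SubfieldElusive
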